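import Groth.Agent.GenSecLib.Pn
import Groth.Agent.EulerPnLib.Homs
import Groth.Agent.FinCovLib.Cover
import Groth.Agent.CohCmpLib.FrameTools
import Groth.Prelude.Def_ExtPow2

/-!
# A globally generated bundle with trivial determinant is trivial
-/

set_option autoImplicit false
set_option linter.style.haveILetI false
set_option linter.unusedSectionVars false
set_option maxHeartbeats 1000000
set_option backward.isDefEq.respectTransparency false
set_option backward.isDefEq.respectTransparency.types false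
universe u

open CategoryTheory CategoryTheory.Limits AlgebraicGeometry TopologicalSpace Opposite

noncomputable section

namespace GenSecLib

variable {X : Scheme.{u}}

theorem ιMulti_eq_det {R M : Type*} [CommRing R] [AddCommGroup M] [Module R M] {r : ℕ}
    (b : Module.Basis (Fin r) R M) (v : Fin r → M) :
    exteriorPower.ιMulti R r v = b.det v • exteriorPower.ιMulti R r b := by
  have h : exteriorPower.ιMulti R r = b.det.smulRight (exteriorPower.ιMulti R r b) := by
    refine Module.Basis.ext_alternating b fun c hc => ?_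
    let π : Equiv.Perm (Fin r) := Equiv.ofBijective c ⟨hc, Finite.surjective_of_injective hc⟩
    show exteriorPower.ιMulti R r (b ∘ π) = b.det (b ∘ π) • _
    rw [AlternatingMap.map_perm, AlternatingMap.map_perm, Module.Basis.det_self, smul_assoc, one_smul]
  exact congr($h v)

theorem exists_minor {R : Type*} [CommRing R] [Nontrivial R] {r N : ℕ} (M : Matrix (Fin r) (Fin N) R)
    (S : Matrix (Fin N) (Fin r) R) (hS : M * S = 1) : ∃ σ : Fin r → Fin N, (M.submatrix id σ).det ≠ 0 := by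
  by_contra hc
  push Not at hc
  have h := det_mul_mem (A := R) ⊥ M S fun σ => by simp [hc σ]
  simp [hS] at h

/-- The value of an `r`-th exterior power datum on `r` sections. -/
def wv {r : ℕ} {E L : X.Modules} (φ : ∀ U : X.affineOpens, (L.val.obj (op U.1)) ≃ₗ[Γ(X, U.1)]
      ↥(⋀[Γ(X, U.1)]^r (E.val.obj (op U.1)))) (θ : L ≅ Coh.structureModule X) (s : Fin r → Γ(E, (⊤ : X.Opens)))
    (V : X.affineOpens) : Γ(X, V.1) :=
  θ.hom.app V.1 ((φ V).symm (exteriorPower.ιMulti _ r fun i => E.presheaf.map (homOfLE (le_top : V.1 ≤ ⊤)).op (s i)))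

theorem wv_res {r : ℕ} {E L : X.Modules} (φ : ∀ U : X.affineOpens, (L.val.obj (op U.1)) ≃ₗ[Γ(X, U.1)]
      ↥(⋀[Γ(X, U.1)]^r (E.val.obj (op U.1))))
    (hφ : ∀ (U V : X.affineOpens) (h : V.1 ≤ U.1) (e : Fin r → E.val.obj (op U.1)),
      L.val.map (homOfLE h).op ((φ U).symm (exteriorPower.ιMulti _ r e)) =
        (φ V).symm (exteriorPower.ιMulti _ r (fun j => E.val.map (homOfLE h).op (e j))))
    (θ : L ≅ Coh.structureModule X) (s : Fin r → Γ(E, (⊤ : X.Opens))) {U V : X.affineOpens} (h : V.1 ≤ U.1) :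
    X.presheaf.map (homOfLE h).op (wv φ θ s U) = wv φ θ s V := by
  refine (QCohLib.app_map θ.hom (homOfLE h) _).symm.trans (congrArg (θ.hom.app V.1) ?_)
  refine (hφ U V h _).trans (congrArg (φ V).symm (congrArg _ (funext fun j => ?_)))
  show E.presheaf.map (homOfLE h).op (E.presheaf.map _ (s j)) = E.presheaf.map _ (s j)
  rw [← ConcreteCategory.comp_apply, ← E.presheaf.map_comp]
  rfl

theorem exists_wv_glue [X.IsSeparated] {r : ℕ} {E L : X.Modules} (φ : ∀ U : X.affineOpens, (L.val.obj (op U.1)) ≃ₗ[Γ(X, U.1)]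
      ↥(⋀[Γ(X, U.1)]^r (E.val.obj (op U.1))))
    (hφ : ∀ (U V : X.affineOpens) (h : V.1 ≤ U.1) (e : Fin r → E.val.obj (op U.1)),
      L.val.map (homOfLE h).op ((φ U).symm (exteriorPower.ιMulti _ r e)) =
        (φ V).symm (exteriorPower.ιMulti _ r (fun j => E.val.map (homOfLE h).op (e j))))
    (θ : L ≅ Coh.structureModule X) (s : Fin r → Γ(E, (⊤ : X.Opens))) :
    ∃ g : Γ(X, ⊤), ∀ V : X.affineOpens, X.presheaf.map (homOfLE (le_top : V.1 ≤ ⊤)).op g = wv φ θ s V := by
  obtain ⟨g, hg, -⟩ := X.sheaf.existsUnique_gluing' (fun V : X.affineOpens => V.1) ⊤ (fun V => homOfLE le_top)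
    (fun x _ => by
      obtain ⟨_, ⟨V, hV, rfl⟩, hxV, -⟩ :=
        X.isBasis_affineOpens.exists_subset_of_mem_open (Set.mem_univ x) isOpen_univ
      exact Opens.mem_iSup.2 ⟨⟨V, hV⟩, hxV⟩)
    (fun V => wv φ θ s V) (fun U V => by
      let W : X.affineOpens := ⟨U.1 ⊓ V.1, U.2.inf V.2⟩
      exact (wv_res φ hφ θ s (V := W) inf_le_left).trans (wv_res φ hφ θ s (V := W) inf_le_right).symm)
  exact ⟨g, hg⟩

/-- With a matrix of coordinates in a local basis, the value is the minor times a generator. -/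
theorem wv_eq {r : ℕ} {E L : X.Modules} (φ : ∀ U : X.affineOpens, (L.val.obj (op U.1)) ≃ₗ[Γ(X, U.1)]
      ↥(⋀[Γ(X, U.1)]^r (E.val.obj (op U.1))))
    (θ : L ≅ Coh.structureModule X) (s : Fin r → Γ(E, (⊤ : X.Opens))) (V : X.affineOpens)
    (b : Module.Basis (Fin r) Γ(X, V.1) Γ(E, V.1)) :
    wv φ θ s V = b.det (fun i => E.presheaf.map (homOfLE (le_top : V.1 ≤ ⊤)).op (s i)) *
      (show Γ(X, V.1) from θ.hom.app V.1 ((φ V).symm (exteriorPower.ιMulti _ r b))) := by
  refine (congrArg (fun z => θ.hom.app V.1 ((φ V).symm z)) (ιMulti_eq_det b _)).trans ?_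
  rw [map_smul]
  exact QCohLib.app_smul θ.hom V.1 _ _

variable (n : ℕ) (k : Type u) [Field k]

local notation "P" => CohB1.ProjSpace n k

theorem nonempty_iso_free_of_det {N r : ℕ} {E : (CohB1.ProjSpace n k).Modules}
    (hE : FlatMod.IsFinLocFreeOfRank r E) (ψ : FlatMod.freeMod P N ⟶ E) [Epi ψ]
    {L : (CohB1.ProjSpace n k).Modules} (hL : ExtPow.IsExtPow r E L) (θ : L ≅ Coh.structureModule P) :
    Nonempty (E ≅ FlatMod.freeMod P r) := by
  classical
  obtain ⟨φ, hφ⟩ := hL
  haveI : Coh.IsQCoh E := (CurvLib.isCoh_of_locFree hE).1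
  haveI : Coh.IsQCoh (FlatMod.freeMod P N) := CurvLib.isQCoh_freeMod P N
  have hloc : ∀ x : P, ∃ V : (CohB1.ProjSpace n k).affineOpens, x ∈ V.1 ∧
      Nonempty (Module.Basis (Fin r) Γ(CohB1.ProjSpace n k, V.1) Γ(E, V.1)) := by
    intro x
    obtain ⟨U, hxU, ⟨e⟩⟩ := hE x
    obtain ⟨_, ⟨V, hV, rfl⟩, hxV, hVU⟩ :=
      (CohB1.ProjSpace n k).isBasis_affineOpens.exists_subset_of_mem_open (SetLike.mem_coe.2 hxU) U.isOpen
    exact ⟨⟨V, hV⟩, hxV, FittLib.nonempty_basis_of_iso E e (fun y hy => hVU hy : V ≤ U)⟩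
  choose V hxV hb using hloc
  let x₀ : P := genericPoint P
  obtain ⟨b₀⟩ := hb x₀
  haveI : Nonempty (V x₀).1 := ⟨⟨x₀, hxV x₀⟩⟩
  let M : Matrix (Fin r) (Fin N) Γ(CohB1.ProjSpace n k, (V x₀).1) := fun i j => b₀.repr (genOf ψ (V x₀).1 j) i
  choose t ht using fun i => RichLib.IsFPAffine.appLin_surjective ψ (V x₀).2 (b₀ i)
  let S : Matrix (Fin N) (Fin r) Γ(CohB1.ProjSpace n k, (V x₀).1) := fun j i => FittLib.coord (t i) j
  have hMS : M * S = 1 := by
    ext l i
    have h1 : b₀ i = ∑ j, FittLib.coord (t i) j • genOf ψ (V x₀).1 j := by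
      refine (ht i).symm.trans ((congrArg (fun z => ψ.app (V x₀).1 z) (FittLib.sum_coord (t i))).trans ?_)
      exact (map_sum (ψ.app (V x₀).1).hom _ _).trans (Finset.sum_congr rfl fun j _ => QCohLib.app_smul ψ _ _ _)
    have h2 := congrArg (fun z => b₀.repr z l) h1
    simp only [Module.Basis.repr_self, map_sum, map_smul, Finsupp.coe_finsetSum, Finset.sum_apply,
      Finsupp.smul_apply, smul_eq_mul] at h2
    rw [Matrix.mul_apply, Matrix.one_apply, ← Finset.sum_congr rfl (fun j _ => mul_comm _ _)]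
    refine h2.symm.trans ?_
    rw [Finsupp.single_apply]
    exact if_congr eq_comm rfl rfl
  obtain ⟨σ, hσ⟩ := exists_minor M S hMS
  haveI : IsProper (P ↘ Spec (CommRingCat.of k)) := inferInstance
  haveI : (CohB1.ProjSpace n k).IsSeparated := ⟨by
    rw [← terminal.comp_from (P ↘ Spec (CommRingCat.of k))]
    infer_instance⟩
  let s : Fin r → Γ(E, (⊤ : (CohB1.ProjSpace n k).Opens)) := fun i => genOf ψ ⊤ (σ i)
  obtain ⟨g, hg⟩ := exists_wv_glue φ hφ θ s
  obtain ⟨c, hc⟩ := EulerPnLib.exists_const n k g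
  have hne : wv φ θ s (V x₀) ≠ 0 := by
    intro h0
    apply hσ
    have h1 := congrArg (φ (V x₀)) ((injective_iff_map_eq_zero _).1
      (fun a b hab => by
        have := congrArg (fun z => θ.inv.app (V x₀).1 z) hab
        rwa [show ∀ z, θ.inv.app (V x₀).1 (θ.hom.app (V x₀).1 z) = z from fun z =>
          congr($(θ.hom_inv_id).app (V x₀).1 z), show ∀ z, θ.inv.app (V x₀).1 (θ.hom.app (V x₀).1 z) = z from
          fun z => congr($(θ.hom_inv_id).app (V x₀).1 z)] at this : Function.Injective (θ.hom.app (V x₀).1).hom) _ h0)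
    rw [LinearEquiv.apply_symm_apply, map_zero] at h1
    replace h1 := (ιMulti_eq_det (R := Γ(CohB1.ProjSpace n k, (V x₀).1)) (M := Γ(E, (V x₀).1)) b₀
      (fun i => E.presheaf.map (homOfLE (le_top : (V x₀).1 ≤ ⊤)).op (s i))).symm.trans h1
    have h2 := congrArg (exteriorPower.alternatingMapLinearEquiv b₀.det) h1
    rw [map_smul, exteriorPower.alternatingMapLinearEquiv_apply_ιMulti, Module.Basis.det_self, smul_eq_mul,
      mul_one, map_zero, Module.Basis.det_apply] at h2
    refine Eq.trans (congrArg Matrix.det ?_) h2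
    ext i j
    rw [Module.Basis.toMatrix_apply]
    exact congrArg (fun z => b₀.repr z i) (genOf_res ψ le_top (σ j)).symm
  have hc0 : c ≠ 0 := by
    rintro rfl
    apply hne
    rw [← hg, hc, map_zero, map_zero]
  have hu : ∀ W, IsUnit (wv φ θ s W) := fun W => by
    rw [← hg, hc]
    exact ((hc0.isUnit).map (Coh.toGlobal (CohB1.ProjSpace.toSpec n k))).map
      ((CohB1.ProjSpace n k).presheaf.map (homOfLE (le_top : W.1 ≤ ⊤)).op).hom
  have hframe : ProjFormLib.IsFrame E s := by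
    intro y hy
    obtain ⟨b⟩ := hb y
    have h := hu (V y)
    rw [wv_eq φ θ s (V y) b] at h
    have hd := (IsUnit.mul_iff.1 h).1
    obtain ⟨hli, hsp⟩ := (Module.Basis.is_basis_iff_det b).2 hd
    have hf := FinCovLib.isFrame_of_affine_basis (V y).2 (Module.Basis.mk hli hsp.ge) y (hxV y)
    simp only [Module.Basis.coe_mk] at hf
    simpa only [ProjFormLib.ger_res] using hf
  obtain ⟨e⟩ := CohCmpLib.exists_iso_freeMod_of_frame hframe
  exact ⟨e⟩

end GenSecLib
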